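import Groth.Agent.TorusStab.Generic

/-!
# A dense open with trivial stabilisers
-/

set_option autoImplicit false
set_option linter.style.haveILetI false
set_option backward.isDefEq.respectTransparency false
set_option maxHeartbeats 800000

universe u

open CategoryTheory Limits MonoidalCategory CartesianMonoidalCategory AlgebraicGeometry
open scoped CategoryTheory.Obj MonObj

noncomputable section

namespace Groth.Agent.TorusStab

open HomDiag

/-- an action pulls back along a homomorphism -/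
theorem exists_transfer {S : Scheme.{u}} {G H X : Over S} [GrpObj G] [GrpObj H] (i : H ⟶ G) [IsMonHom i]
    (a : AlgGrp.Action G X) :
    ∃ b : AlgGrp.Action H X, ∀ {W : Over S} (g : W ⟶ H) (x : W ⟶ X), lift g x ≫ b.act = lift (g ≫ i) x ≫ a.act :=
  ⟨{ act := (i ▷ X) ≫ a.act
     one_act := by
       rw [← comp_whiskerRight_assoc, IsMonHom.one_hom]
       exact a.one_act
     mul_act := by
       rw [← comp_whiskerRight_assoc, IsMonHom.mul_hom, comp_whiskerRight_assoc, a.mul_act, ← tensorHom_id,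
         associator_naturality_assoc]
       simp only [MonoidalCategory.tensorHom_def, MonoidalCategory.whiskerLeft_comp, Category.assoc,
         MonoidalCategory.whiskerLeft_id, Category.comp_id, MonoidalCategory.id_whiskerRight, Category.id_comp,
         whisker_exchange_assoc] },
    fun g x => lift_whiskerRight_assoc _ _ _ _⟩

theorem eq_one_of_comp {S : Scheme.{u}} {G H W : Over S} [GrpObj G] [GrpObj H] (i : H ⟶ G) (j : G ⟶ H)
    [IsMonHom j] (hij : i ≫ j = 𝟙 H) (g : W ⟶ H) (h : g ≫ i = 1) : g = 1 := by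
  calc g = (g ≫ i) ≫ j := by rw [Category.assoc, hij, Category.comp_id]
    _ = 1 := by rw [h, MonObj.one_comp]

theorem exists_ρ {Y : Scheme.{u}} {V : Y.Opens} (hV : IsAffineOpen V) {B : CommRingCat.{u}} (f : Spec B ⟶ Y)
    (h : ∀ p, f p ∈ V) : ∃ ρ : Γ(Y, V) ⟶ B, Spec.map ρ ≫ hV.fromSpec = f := by
  have hr : Set.range f ⊆ Set.range hV.fromSpec := by
    rw [hV.range_fromSpec]
    rintro _ ⟨p, rfl⟩
    exact h p
  obtain ⟨ρ, hρ⟩ := Spec.map_surjective (IsOpenImmersion.lift hV.fromSpec f hr)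
  exact ⟨ρ, by rw [hρ, IsOpenImmersion.lift_fac]⟩

theorem isUnit_ρ {Y : Scheme.{u}} {V : Y.Opens} (hV : IsAffineOpen V) {B : CommRingCat.{u}} (ρ : Γ(Y, V) ⟶ B)
    (f : Γ(Y, V)) (h : ∀ p, (Spec.map ρ ≫ hV.fromSpec) p ∈ Y.basicOpen f) : IsUnit (ρ f) := by
  by_contra hu
  obtain ⟨I, hI, hmem⟩ := exists_max_ideal_of_mem_nonunits hu
  let p : Spec B := ⟨I, hI.isPrime⟩
  have h1 : Spec.map ρ p ∈ hV.fromSpec ⁻¹ᵁ Y.basicOpen f := h p
  rw [hV.fromSpec_preimage_basicOpen] at h1
  exact h1 hmem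

theorem ι_comp_ext {Y Z : Scheme.{u}} {W : Y.Opens} (hW : IsAffineOpen W) {f g : Y ⟶ Z}
    (h : hW.fromSpec ≫ f = hW.fromSpec ≫ g) : W.ι ≫ f = W.ι ≫ g := by
  rw [← cancel_epi hW.isoSpec.inv]
  exact h

variable {S : Scheme.{u}} {M : Type} [AddCommGroup M] {X : Over S} (a : AlgGrp.Action (Red.DS S M) X)
  [IsSeparated X.hom]

omit [IsSeparated X.hom] in
/-- characters killing the generic stabiliser act trivially -/
theorem fix_of_kills (Λ : Subgroup (Multiplicative M))
    (hΛ : ∀ (V : X.left.Opens) (hV : IsAffineOpen V) [Nonempty V] (B : CommRingCat.{u})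
      (φ : MonoidAlgebra Γ(X.left, V) (Multiplicative M) →+* B),
      (∀ m ∈ Λ, φ (MonoidAlgebra.single m 1) = 1) → Fixes a hV.fromSpec φ)
    {T : Over S} (g : T ⟶ Red.DS S M) (x : T ⟶ X) (h : ∀ m ∈ Λ, ch g m = 1) : lift g x ≫ a.act = x := by
  refine Over.OverMorphism.ext (Scheme.hom_ext_of_forall _ _ fun t => ?_)
  obtain ⟨V, hV, htV, -⟩ := exists_isAffineOpen_mem_and_subset (X := X.left) (x := x.left t) (U := ⊤) trivial
  obtain ⟨W, hW, htW, hWV⟩ := exists_isAffineOpen_mem_and_subset (X := T.left) (x := t) (U := x.left ⁻¹ᵁ V) htV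
  haveI : Nonempty V := ⟨⟨_, htV⟩⟩
  refine ⟨W, htW, ι_comp_ext hW ?_⟩
  let q : Spec Γ(T.left, W) ⟶ S := hW.fromSpec ≫ T.hom
  let j : Over.mk q ⟶ T := Over.homMk hW.fromSpec
  obtain ⟨ρ, hρ⟩ := exists_ρ hV (j ≫ x).left fun p => by
    have hp : hW.fromSpec p ∈ (W : Set T.left) := hW.range_fromSpec ▸ Set.mem_range_self p
    exact hWV hp
  let χ : Multiplicative M →* Γ(T.left, W) :=
    (Scheme.ΓSpecIso Γ(T.left, W)).hom.hom.toMonoidHom.comp (ch (j ≫ g))
  let φ := liftR ρ.hom χ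
  have hφg : ∀ m, ch (j ≫ g) m = (Scheme.ΓSpecIso Γ(T.left, W)).inv (φ (MonoidAlgebra.single m 1)) := fun m => by
    rw [show φ (MonoidAlgebra.single m 1) = (Scheme.ΓSpecIso Γ(T.left, W)).hom (ch (j ≫ g) m) by
      simp only [φ, liftR_single, map_one, one_mul]; rfl]
    exact ((Scheme.ΓSpecIso Γ(T.left, W)).hom_inv_id_apply _).symm
  have hf : lift (j ≫ g) (j ≫ x) ≫ a.act = j ≫ x :=
    (fixes_iff a hV.fromSpec q (j ≫ g) (j ≫ x) ρ hρ φ (liftR_comp_one _ _) hφg).2
      (hΛ V hV _ φ fun m hm => by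
        simp only [φ, liftR_single, map_one, one_mul]
        show (Scheme.ΓSpecIso Γ(T.left, W)).hom (ch (j ≫ g) m) = 1
        rw [ch_comp, h m hm, map_one, map_one])
  rw [← comp_lift, Category.assoc] at hf
  exact congrArg CommaMorphism.left hf

omit [IsSeparated X.hom] in
/-- a point landing where all characters are forced to be trivial is fixed only by the unit -/
theorem eq_one_of_fixes {V : X.left.Opens} (hV : IsAffineOpen V) (F : Γ(X.left, V))
    (hF : ∀ (B : CommRingCat.{u}) (φ : MonoidAlgebra Γ(X.left, V) (Multiplicative M) →+* B), Fixes a hV.fromSpec φ →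
      IsUnit (φ (MonoidAlgebra.single 1 F)) → ∀ m, φ (MonoidAlgebra.single m 1) = 1)
    {T : Over S} (g : T ⟶ Red.DS S M) (x : T ⟶ X) (hx : ∀ p, x.left p ∈ X.left.basicOpen F)
    (hg : lift g x ≫ a.act = x) : g = 1 := by
  refine Over.OverMorphism.ext (Scheme.hom_ext_of_forall _ _ fun t => ?_)
  obtain ⟨W, hW, htW, -⟩ := exists_isAffineOpen_mem_and_subset (X := T.left) (x := t) (U := ⊤) trivial
  refine ⟨W, htW, ι_comp_ext hW ?_⟩
  let q : Spec Γ(T.left, W) ⟶ S := hW.fromSpec ≫ T.hom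
  let j : Over.mk q ⟶ T := Over.homMk hW.fromSpec
  obtain ⟨ρ, hρ⟩ := exists_ρ hV (j ≫ x).left fun p => X.left.basicOpen_le _ (hx _)
  have hu : IsUnit (ρ F) := isUnit_ρ hV ρ _ fun p => by rw [hρ]; exact hx _
  let χ : Multiplicative M →* Γ(T.left, W) :=
    (Scheme.ΓSpecIso Γ(T.left, W)).hom.hom.toMonoidHom.comp (ch (j ≫ g))
  let φ := liftR ρ.hom χ
  have hφ1 : ∀ m, φ (MonoidAlgebra.single m 1) = χ m := fun m => by simp only [φ, liftR_single, map_one, one_mul]
  have hfix : Fixes a hV.fromSpec φ := by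
    refine (fixes_iff a hV.fromSpec q (j ≫ g) (j ≫ x) ρ hρ φ (liftR_comp_one _ _) fun m => ?_).1 ?_
    · rw [hφ1]
      exact ((Scheme.ΓSpecIso Γ(T.left, W)).hom_inv_id_apply _).symm
    · rw [← comp_lift, Category.assoc, hg]
  have hall := hF _ φ hfix (by
    rwa [show φ (MonoidAlgebra.single 1 F) = ρ F from (liftR_single _ _ _ _).trans (by rw [map_one, mul_one])])
  have hj : j ≫ g = j ≫ (1 : T ⟶ Red.DS S M) := by
    rw [MonObj.comp_one]
    refine ch_ext fun m => ?_
    rw [ch_one]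
    apply (Scheme.ΓSpecIso Γ(T.left, W)).commRingCatIsoToRingEquiv.injective
    rw [map_one]
    exact (hφ1 m).symm.trans (hall m)
  exact congrArg CommaMorphism.left hj

theorem eq_of_e {B : Type*} [MulOneClass B] {r : ℕ} (χ : Multiplicative (Fin r → ℤ) →* B)
    (he : ∀ i, χ (Multiplicative.ofAdd (Pi.single i 1)) = 1) (m : Multiplicative (Fin r → ℤ)) : χ m = 1 := by
  classical
  have hm : m = ∏ i, Multiplicative.ofAdd (Pi.single i (1 : ℤ) : Fin r → ℤ) ^ (m.toAdd i) := by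
    apply Multiplicative.toAdd.injective
    rw [toAdd_prod]
    conv_lhs => rw [← Finset.univ_sum_single m.toAdd]
    refine Finset.sum_congr rfl fun i _ => ?_
    simp [toAdd_zpow, ← Pi.single_smul]
  rw [← MonoidHom.mem_ker, hm]
  exact χ.ker.prod_mem fun i _ => χ.ker.zpow_mem (he i) _

theorem exists_open {k : Type u} [Field k] {X : Over (Spec (CommRingCat.of k))} [IsSeparated X.hom] [IsIntegral X.left]
    {r : ℕ} (a : AlgGrp.Action (Red.DS (Spec (CommRingCat.of k)) (Fin r → ℤ)) X)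
    (hfaith : ∀ (S : Over (Spec (CommRingCat.of k))) (g : S ⟶ Red.DS (Spec (CommRingCat.of k)) (Fin r → ℤ)),
      (∀ (S' : Over (Spec (CommRingCat.of k))) (s : S' ⟶ S) (x : S' ⟶ X), lift (s ≫ g) x ≫ a.act = x) → g = 1) :
    ∃ U : X.left.Opens, Dense (U : Set ↥X.left) ∧
      ∀ x : 𝟙_ (Over (Spec (CommRingCat.of k))) ⟶ X, x.left (IsLocalRing.closedPoint k) ∈ U →
        ∀ (S : Over (Spec (CommRingCat.of k))) (g : S ⟶ Red.DS (Spec (CommRingCat.of k)) (Fin r → ℤ)),
          lift g (toUnit S ≫ x) ≫ a.act = toUnit S ≫ x → g = 1 := by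
  classical
  obtain ⟨Λ, hΛ⟩ := exists_subgroup a
  have htop : ∀ m : Multiplicative (Fin r → ℤ), m ∈ Λ := by
    let A := MonoidAlgebra k (Multiplicative (Fin r → ℤ) ⧸ Λ)
    let S₀ : Over (Spec (CommRingCat.of k)) :=
      Over.mk (Spec.map (CommRingCat.ofHom (MonoidAlgebra.singleOneRingHom : k →+* A)))
    obtain ⟨g₀, hg₀⟩ := exists_ch (S := Spec (CommRingCat.of k)) (M := Fin r → ℤ) (X := S₀)
      (((Scheme.ΓSpecIso (CommRingCat.of A)).inv.hom.toMonoidHom.comp (MonoidAlgebra.of k _)).comp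
        (QuotientGroup.mk' Λ))
    have h1 : g₀ = 1 := hfaith S₀ g₀ fun S' s x => fix_of_kills a Λ (fun V hV _ => (hΛ V hV).1) (s ≫ g₀) x
      fun m hm => by
        rw [ch_comp, hg₀]
        show s.left.appTop ((Scheme.ΓSpecIso (CommRingCat.of A)).inv (MonoidAlgebra.single (QuotientGroup.mk' Λ m) 1)) = _
        rw [show QuotientGroup.mk' Λ m = 1 from (QuotientGroup.eq_one_iff m).2 hm, ← MonoidAlgebra.one_def]
        simp
    intro m
    have h2 := hg₀ m
    rw [h1, ch_one] at h2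
    have h3 : MonoidAlgebra.of k _ (QuotientGroup.mk' Λ m) = 1 := by
      apply (Scheme.ΓSpecIso (CommRingCat.of A)).commRingCatIsoToRingEquiv.symm.injective
      rw [map_one]
      exact h2.symm
    exact (QuotientGroup.eq_one_iff m).1 (MonoidAlgebra.of_injective (h3.trans (map_one _).symm))
  obtain ⟨V, hV, hηV, -⟩ := exists_isAffineOpen_mem_and_subset (X := X.left) (x := genericPoint X.left) (U := ⊤) trivial
  haveI : Nonempty V := ⟨⟨_, hηV⟩⟩
  let e : Fin r → Multiplicative (Fin r → ℤ) := fun i => Multiplicative.ofAdd (Pi.single i 1)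
  choose f hf0 hf using fun i => (hΛ V hV).2 (e i) (htop _)
  have hF : ∏ i, f i ≠ 0 := Finset.prod_ne_zero_iff.2 fun i _ => hf0 i
  refine ⟨X.left.basicOpen (∏ i, f i), ?_, fun x hx T g hg => ?_⟩
  · refine (X.left.basicOpen (∏ i, f i)).2.dense (Set.nonempty_iff_ne_empty.2 fun h => hF ?_)
    rw [← basicOpen_eq_bot_iff]
    exact TopologicalSpace.Opens.ext h
  refine eq_one_of_fixes a hV (∏ i, f i) ?_ g (toUnit T ≫ x) (fun p => ?_) hg
  · intro B φ hφ hu m
    refine eq_of_e (φ.toMonoidHom.comp (MonoidAlgebra.of _ _)) (fun i => hf i B φ hφ ?_) m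
    exact isUnit_of_dvd_unit (map_dvd (φ.comp MonoidAlgebra.singleOneRingHom)
      (Finset.dvd_prod_of_mem f (Finset.mem_univ i))) hu
  · haveI : Subsingleton ↥(Spec (CommRingCat.of k)) := inferInstanceAs (Subsingleton (PrimeSpectrum k))
    show x.left ((toUnit T).left p) ∈ _
    rwa [show (toUnit T).left p = IsLocalRing.closedPoint k from
      Subsingleton.elim (α := ↥(Spec (CommRingCat.of k))) _ _]

end Groth.Agent.TorusStab
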