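import Mathlib.LinearAlgebra.TensorProduct.Basic
import Mathlib.LinearAlgebra.Basis.VectorSpace
import Mathlib.RingTheory.TensorProduct.Basic
import Mathlib.Algebra.MonoidAlgebra.Module
import Mathlib.Algebra.MonoidAlgebra.Basic
import Mathlib.GroupTheory.QuotientGroup.Defs
import Mathlib.RingTheory.Ideal.Quotient.Operations

/-!
# Group-like elements and closed subgroups of diagonalisable groups
-/

set_option autoImplicit false
set_option linter.style.haveILetI false
set_option backward.isDefEq.respectTransparency false

universe u

open TensorProduct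

noncomputable section

namespace Groth.Agent.TorusStab

/-- distinct group-like elements are linearly independent -/
theorem linearIndependent_of_grouplike {K A : Type*} {ι : Type*} [Field K] [AddCommGroup A] [Module K A] (a : ι → A)
    (hinj : Function.Injective a) (hne : ∀ i, a i ≠ 0) (Δ : A →ₗ[K] A ⊗[K] A) (hΔ : ∀ i, Δ (a i) = a i ⊗ₜ a i) :
    LinearIndependent K a := by
  classical
  rw [linearIndependent_iff_finset_linearIndependent]
  intro t
  show LinearIndepOn K a (t : Set ι)
  induction t using Finset.induction_on with
  | empty => simp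
  | @insert i t hit ht =>
    rw [Finset.coe_insert]
    refine ht.insert fun hspan => ?_
    have hli : LinearIndependent K fun p : ↥(t : Set ι) => a p := ht
    obtain ⟨c, hc⟩ : ∃ c : ↥(t : Set ι) →₀ K, Finsupp.linearCombination K (fun p : ↥(t : Set ι) => a p) c = a i := by
      rwa [Set.image_eq_range, ← Finsupp.range_linearCombination, LinearMap.mem_range] at hspan
    choose f hf using fun p : ↥(t : Set ι) =>
      LinearMap.exists_extend ((Finsupp.lapply p).comp hli.repr)
    have hfa : ∀ p x, f p (Finsupp.linearCombination K (fun q : ↥(t : Set ι) => a q) x) = x p := by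
      intro p x
      have hm : Finsupp.linearCombination K (fun q : ↥(t : Set ι) => a q) x ∈
          Submodule.span K (Set.range fun q : ↥(t : Set ι) => a q) := by
        rw [← Finsupp.range_linearCombination]; exact ⟨x, rfl⟩
      have := LinearMap.congr_fun (hf p) ⟨_, hm⟩
      simp only [LinearMap.comp_apply, Submodule.subtype_apply] at this
      rw [this, hli.repr_eq (show Finsupp.linearCombination K _ x = _ from rfl)]
      rfl
    have hfa' : ∀ p q : ↥(t : Set ι), f p (a q) = if p = q then 1 else 0 := by
      intro p q
      have := hfa p (Finsupp.single q 1)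
      rw [Finsupp.linearCombination_single, one_smul] at this
      rw [this, Finsupp.single_apply]
      simp only [eq_comm]
    have key : ∀ p q, c p * c q = if p = q then c p else 0 := by
      intro p q
      have e : (LinearMap.mul' K K ∘ₗ TensorProduct.map (f p) (f q)) (Δ (a i)) =
          (LinearMap.mul' K K ∘ₗ TensorProduct.map (f p) (f q))
            (Δ (Finsupp.linearCombination K (fun r : ↥(t : Set ι) => a r) c)) := by rw [hc]
      rw [hΔ, Finsupp.linearCombination_apply, map_finsuppSum, map_finsuppSum, LinearMap.comp_apply,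
        TensorProduct.map_tmul, LinearMap.mul'_apply, ← hc, hfa, hfa] at e
      rw [e, Finsupp.sum]
      simp only [map_smul, hΔ, LinearMap.comp_apply, TensorProduct.map_tmul, LinearMap.mul'_apply, hfa',
        smul_eq_mul]
      rw [Finset.sum_eq_single p]
      · by_cases hpq : p = q
        · subst hpq; simp
        · simp [hpq, Ne.symm hpq]
      · intro r _ hr; simp [Ne.symm hr]
      · intro hp; rw [Finsupp.notMem_support_iff.1 hp]; simp
    obtain ⟨p, hp⟩ : ∃ p, c p ≠ 0 := by
      by_contra hall
      push Not at hall
      exact hne i (by rw [← hc, show c = 0 from Finsupp.ext hall, map_zero])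
    have h1 : c p = 1 := by
      have := key p p
      rw [if_pos rfl] at this
      exact (mul_eq_left₀ hp).1 this
    have h0 : ∀ q, q ≠ p → c q = 0 := fun q hq => by
      have := key p q
      rw [if_neg (Ne.symm hq), h1, one_mul] at this
      exact this
    have hcp : c = Finsupp.single p 1 := by
      ext q
      by_cases hq : q = p
      · subst hq; rw [Finsupp.single_eq_same]; exact h1
      · rw [h0 q hq, Finsupp.single_eq_of_ne hq]
    rw [hcp, Finsupp.linearCombination_single, one_smul] at hc
    exact hit (hinj hc ▸ p.2)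

variable {K : Type u} [Field K] {G : Type} [CommGroup G]

/-- the characters equal to one modulo `J` -/
def kerChar (J : Ideal (MonoidAlgebra K G)) : Subgroup G :=
  ((Ideal.Quotient.mk J).toMonoidHom.comp (MonoidAlgebra.of K G)).ker

theorem mem_kerChar {J : Ideal (MonoidAlgebra K G)} {m : G} :
    m ∈ kerChar J ↔ MonoidAlgebra.single m 1 - 1 ∈ J := by
  rw [kerChar, MonoidHom.mem_ker, ← Ideal.Quotient.eq_zero_iff_mem, map_sub, map_one, sub_eq_zero]
  rfl

/-- a proper ideal stable under the comultiplication is the kernel of a quotient of the characters -/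
theorem le_ker_of_diag (J : Ideal (MonoidAlgebra K G)) (hJ : J ≠ ⊤)
    (Δ : (MonoidAlgebra K G ⧸ J) →ₗ[K] (MonoidAlgebra K G ⧸ J) ⊗[K] (MonoidAlgebra K G ⧸ J))
    (hΔ : ∀ m : G, Δ (Ideal.Quotient.mk J (MonoidAlgebra.single m 1)) =
      Ideal.Quotient.mk J (MonoidAlgebra.single m 1) ⊗ₜ Ideal.Quotient.mk J (MonoidAlgebra.single m 1)) :
    J ≤ RingHom.ker (MonoidAlgebra.mapDomainRingHom K (QuotientGroup.mk' (kerChar J))) := by
  haveI : Nontrivial (MonoidAlgebra K G ⧸ J) := Ideal.Quotient.nontrivial_iff.2 hJ
  let a : G →* MonoidAlgebra K G ⧸ J := (Ideal.Quotient.mk J).toMonoidHom.comp (MonoidAlgebra.of K G)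
  let a' : G ⧸ kerChar J →* MonoidAlgebra K G ⧸ J := QuotientGroup.lift (kerChar J) a le_rfl
  have hli : LinearIndependent K a' := by
    refine linearIndependent_of_grouplike a' ?_ (fun q => ((Group.isUnit q).map a').ne_zero) Δ ?_
    · intro p q h
      obtain ⟨p, rfl⟩ := QuotientGroup.mk_surjective p
      obtain ⟨q, rfl⟩ := QuotientGroup.mk_surjective q
      rw [QuotientGroup.eq]
      show a (p⁻¹ * q) = 1
      rw [map_mul, show a q = a p from h.symm, ← map_mul, inv_mul_cancel, map_one]
    · intro q
      obtain ⟨m, rfl⟩ := QuotientGroup.mk_surjective q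
      exact hΔ m
  let θ := MonoidAlgebra.lift K (MonoidAlgebra K G ⧸ J) (G ⧸ kerChar J) a'
  have hθi : Function.Injective θ := by
    rw [injective_iff_map_eq_zero]
    intro x hx
    have e : ∀ y, θ.toLinearMap y = Finsupp.linearCombination K a' ((MonoidAlgebra.basis (G ⧸ kerChar J) K).repr y) := by
      intro y
      refine LinearMap.congr_fun ((MonoidAlgebra.basis (G ⧸ kerChar J) K).ext (f₂ := (Finsupp.linearCombination K a').comp
        (MonoidAlgebra.basis (G ⧸ kerChar J) K).repr.toLinearMap) fun q => ?_) y
      rw [LinearMap.comp_apply, LinearEquiv.coe_coe, Module.Basis.repr_self, Finsupp.linearCombination_single,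
        MonoidAlgebra.basis_apply]
      exact MonoidAlgebra.lift_single _ _ _
    have := e x
    rw [show θ.toLinearMap x = 0 from hx] at this
    exact (MonoidAlgebra.basis (G ⧸ kerChar J) K).repr.map_eq_zero_iff.1
      (linearIndependent_iff.1 hli _ this.symm)
  have hcomp : θ.toRingHom.comp (MonoidAlgebra.mapDomainRingHom K (QuotientGroup.mk' (kerChar J))) =
      Ideal.Quotient.mk J := by
    refine MonoidAlgebra.ringHom_ext (fun c => ?_) fun m => ?_
    · show θ (MonoidAlgebra.mapDomain _ (MonoidAlgebra.single 1 c)) = _
      rw [MonoidAlgebra.mapDomain_single]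
      refine (MonoidAlgebra.lift_single _ _ _).trans ?_
      rw [map_one]
      show c • a' 1 = _
      rw [map_one, show MonoidAlgebra.single (1 : G) c = c • (1 : MonoidAlgebra K G) by
        simp [MonoidAlgebra.one_def]]
      rfl
    · show θ (MonoidAlgebra.mapDomain _ (MonoidAlgebra.single m 1)) = _
      rw [MonoidAlgebra.mapDomain_single]
      exact (MonoidAlgebra.lift_single _ _ _).trans (one_smul _ _)
  intro x hx
  rw [RingHom.mem_ker]
  refine hθi ?_
  rw [map_zero, ← Ideal.Quotient.eq_zero_iff_mem.2 hx]
  exact RingHom.congr_fun hcomp x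

end Groth.Agent.TorusStab
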