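import Groth.Agent.TorusStab.Points
import Groth.Agent.TorusStab.Grouplike
import Mathlib.AlgebraicGeometry.FunctionField
import Mathlib.AlgebraicGeometry.Stalk

/-!
# The generic stabiliser of an action of a diagonalisable group
-/

set_option autoImplicit false
set_option linter.style.haveILetI false
set_option backward.isDefEq.respectTransparency false
set_option maxHeartbeats 800000
set_option synthInstance.maxHeartbeats 200000

universe u

open CategoryTheory Limits MonoidalCategory CartesianMonoidalCategory AlgebraicGeometry TensorProduct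
open scoped CategoryTheory.Obj MonObj

noncomputable section

namespace Groth.Agent.TorusStab

open HomDiag

theorem exists_of_mem_map {R K : Type u} [CommRing R] [IsDomain R] [Field K] [Algebra R K] [IsFractionRing R K]
    {G : Type} [CommGroup G] (J : Ideal (MonoidAlgebra R G)) {z : MonoidAlgebra K G}
    (hz : z ∈ J.map (MonoidAlgebra.mapRingHom G (algebraMap R K))) :
    ∃ f : R, f ≠ 0 ∧ ∃ y ∈ J,
      MonoidAlgebra.mapRingHom G (algebraMap R K) y = MonoidAlgebra.single 1 (algebraMap R K f) * z := by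
  have clear' : ∀ w : MonoidAlgebra K G, ∃ f : R, f ≠ 0 ∧ ∃ y,
      MonoidAlgebra.mapRingHom G (algebraMap R K) y = MonoidAlgebra.single 1 (algebraMap R K f) * w := by
    intro w
    induction w using MonoidAlgebra.induction_linear with
    | zero => exact ⟨1, one_ne_zero, 0, by simp⟩
    | add p q hp hq =>
      obtain ⟨f, hf, y, hy⟩ := hp
      obtain ⟨g, hg, y', hy'⟩ := hq
      refine ⟨f * g, mul_ne_zero hf hg, MonoidAlgebra.single 1 g * y + MonoidAlgebra.single 1 f * y', ?_⟩
      have e : MonoidAlgebra.single (1 : G) (algebraMap R K (f * g)) =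
          MonoidAlgebra.single 1 (algebraMap R K f) * MonoidAlgebra.single 1 (algebraMap R K g) := by
        rw [MonoidAlgebra.single_mul_single, one_mul, map_mul]
      rw [map_add, map_mul, map_mul, MonoidAlgebra.mapRingHom_single, MonoidAlgebra.mapRingHom_single, hy, hy', e]
      ring
    | single m c =>
      obtain ⟨r, s, hs, rfl⟩ := IsFractionRing.div_surjective R c
      refine ⟨s, nonZeroDivisors.ne_zero hs, MonoidAlgebra.single m r, ?_⟩
      rw [MonoidAlgebra.mapRingHom_single, MonoidAlgebra.single_mul_single, one_mul, mul_div_cancel₀]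
      exact IsFractionRing.to_map_ne_zero_of_mem_nonZeroDivisors hs
  induction hz using Submodule.span_induction with
  | mem z hz =>
    obtain ⟨y, hy, rfl⟩ := hz
    exact ⟨1, one_ne_zero, y, hy, by rw [map_one, ← MonoidAlgebra.one_def, one_mul]⟩
  | zero => exact ⟨1, one_ne_zero, 0, J.zero_mem, by simp⟩
  | add p q _ _ hp hq =>
    obtain ⟨f, hf, y, hyJ, hy⟩ := hp
    obtain ⟨g, hg, y', hyJ', hy'⟩ := hq
    refine ⟨f * g, mul_ne_zero hf hg, MonoidAlgebra.single 1 g * y + MonoidAlgebra.single 1 f * y',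
      J.add_mem (J.mul_mem_left _ hyJ) (J.mul_mem_left _ hyJ'), ?_⟩
    have e : MonoidAlgebra.single (1 : G) (algebraMap R K (f * g)) =
        MonoidAlgebra.single 1 (algebraMap R K f) * MonoidAlgebra.single 1 (algebraMap R K g) := by
      rw [MonoidAlgebra.single_mul_single, one_mul, map_mul]
    rw [map_add, map_mul, map_mul, MonoidAlgebra.mapRingHom_single, MonoidAlgebra.mapRingHom_single, hy, hy', e]
    ring
  | smul w p _ hp =>
    obtain ⟨f, hf, y, hyJ, hy⟩ := hp
    obtain ⟨g, hg, w', hw'⟩ := clear' w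
    refine ⟨g * f, mul_ne_zero hg hf, w' * y, J.mul_mem_left _ hyJ, ?_⟩
    have e : MonoidAlgebra.single (1 : G) (algebraMap R K (g * f)) =
        MonoidAlgebra.single 1 (algebraMap R K g) * MonoidAlgebra.single 1 (algebraMap R K f) := by
      rw [MonoidAlgebra.single_mul_single, one_mul, map_mul]
    rw [map_mul, hy, hw', e, smul_eq_mul]
    ring

variable {S : Scheme.{u}} {M : Type} [AddCommGroup M] {X : Over S} (a : AlgGrp.Action (Red.DS S M) X)

/-- the trivial character fixes everything -/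
theorem fixes_one {L : CommRingCat.{u}} (ξ : Spec L ⟶ X.left) {B : CommRingCat.{u}}
    (φ : MonoidAlgebra L (Multiplicative M) →+* B) (h : ∀ m, φ (MonoidAlgebra.single m 1) = 1) :
    Fixes a ξ φ := by
  let ρ : L ⟶ B := CommRingCat.ofHom (φ.comp MonoidAlgebra.singleOneRingHom)
  obtain ⟨x, hx⟩ := exists_pt ξ ρ
  rw [← fixes_iff a ξ _ (1 : Over.mk (Spec.map ρ ≫ ξ ≫ X.hom) ⟶ Red.DS S M) x ρ hx.symm φ rfl (fun m => by
    rw [ch_one, h, map_one])]
  have e : lift (1 : Over.mk (Spec.map ρ ≫ ξ ≫ X.hom) ⟶ Red.DS S M) x = x ≫ (λ_ X).inv ≫ (MonObj.one ▷ X) := by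
    apply CartesianMonoidalCategory.hom_ext
    · simp [Hom.one_def]
    · simp
  rw [e, Category.assoc, Category.assoc, a.one_act, Iso.inv_hom_id, Category.comp_id]

variable [IsSeparated X.hom]

omit [IsSeparated X.hom] in
/-- the fixing characters are closed under products -/
theorem exists_prod {K : Type u} [Field K] (ξ : Spec (CommRingCat.of K) ⟶ X.left)
    (J : Ideal (MonoidAlgebra K (Multiplicative M)))
    (hJ : ∀ (B : CommRingCat.{u}) (φ : MonoidAlgebra K (Multiplicative M) →+* B), Fixes a ξ φ ↔ J ≤ RingHom.ker φ)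
    {T : Type u} [CommRing T] [Algebra K T] (ψ₁ ψ₂ : MonoidAlgebra K (Multiplicative M) →ₐ[K] T)
    (h1 : J ≤ RingHom.ker ψ₁.toRingHom) (h2 : J ≤ RingHom.ker ψ₂.toRingHom) :
    ∃ ψ₃ : MonoidAlgebra K (Multiplicative M) →ₐ[K] T, (∀ x ∈ J, ψ₃ x = 0) ∧
      ∀ m, ψ₃ (MonoidAlgebra.single m 1) = ψ₁ (MonoidAlgebra.single m 1) * ψ₂ (MonoidAlgebra.single m 1) := by
  let ψ₃ : MonoidAlgebra K (Multiplicative M) →ₐ[K] T :=
    MonoidAlgebra.lift K T (Multiplicative M)
      (((ψ₁.toRingHom.toMonoidHom.comp (MonoidAlgebra.of K _))) * (ψ₂.toRingHom.toMonoidHom.comp (MonoidAlgebra.of K _)))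
  have hmul : ∀ m, ψ₃ (MonoidAlgebra.single m 1) = ψ₁ (MonoidAlgebra.single m 1) * ψ₂ (MonoidAlgebra.single m 1) :=
    fun m => (MonoidAlgebra.lift_single _ _ _).trans (one_smul _ _)
  have halg : ∀ ψ : MonoidAlgebra K (Multiplicative M) →ₐ[K] T,
      ψ.toRingHom.comp MonoidAlgebra.singleOneRingHom = algebraMap K T := fun ψ =>
    RingHom.ext fun c => ψ.commutes c
  exact ⟨ψ₃, (hJ (CommRingCat.of T) ψ₃.toRingHom).1 (fixes_mul a ξ (B := CommRingCat.of T) ψ₁.toRingHom ψ₂.toRingHom
    ψ₃.toRingHom ((halg ψ₁).trans (halg ψ₂).symm) ((halg ψ₁).trans (halg ψ₃).symm) hmul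
    ((hJ (CommRingCat.of T) ψ₁.toRingHom).2 h1) ((hJ (CommRingCat.of T) ψ₂.toRingHom).2 h2)), hmul⟩

/-- over a field the fixing characters are those killing a subgroup -/
theorem field_kernel {K : Type u} [Field K] (ξ : Spec (CommRingCat.of K) ⟶ X.left) :
    ∃ J : Ideal (MonoidAlgebra K (Multiplicative M)),
      (∀ (B : CommRingCat.{u}) (φ : MonoidAlgebra K (Multiplicative M) →+* B), Fixes a ξ φ ↔ J ≤ RingHom.ker φ) ∧
      J ≤ RingHom.ker (MonoidAlgebra.mapDomainRingHom K (QuotientGroup.mk' (kerChar J))) := by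
  obtain ⟨J, hJ⟩ := exists_ideal a ξ
  refine ⟨J, hJ, ?_⟩
  have hne : J ≠ ⊤ := by
    intro h
    let ε : MonoidAlgebra K (Multiplicative M) →+* K := liftR (RingHom.id K) 1
    have hε : ∀ m : Multiplicative M, ε (MonoidAlgebra.single m 1) = 1 := fun m => by
      simp [ε, liftR_single]
    have h2 : J ≤ RingHom.ker ε := (hJ (CommRingCat.of K) ε).1 (fixes_one a ξ (B := CommRingCat.of K) ε hε)
    have h3 : ε 1 = 0 := h2 (h ▸ Submodule.mem_top)
    rw [map_one] at h3
    exact one_ne_zero h3
  obtain ⟨ψ₃, h3, hmul⟩ := exists_prod a ξ J hJ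
    (T := (MonoidAlgebra K (Multiplicative M) ⧸ J) ⊗[K] (MonoidAlgebra K (Multiplicative M) ⧸ J))
    ((Algebra.TensorProduct.includeLeft (S := K)).comp (Ideal.Quotient.mkₐ K J))
    (Algebra.TensorProduct.includeRight.comp (Ideal.Quotient.mkₐ K J))
    (fun x hx => by
      show (Ideal.Quotient.mk J x) ⊗ₜ[K] (1 : MonoidAlgebra K (Multiplicative M) ⧸ J) = 0
      rw [Ideal.Quotient.eq_zero_iff_mem.2 hx, TensorProduct.zero_tmul])
    (fun x hx => by
      show (1 : MonoidAlgebra K (Multiplicative M) ⧸ J) ⊗ₜ[K] (Ideal.Quotient.mk J x) = 0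
      rw [Ideal.Quotient.eq_zero_iff_mem.2 hx, TensorProduct.tmul_zero])
  refine le_ker_of_diag J hne (Ideal.Quotient.liftₐ J ψ₃ h3).toLinearMap fun m => ?_
  refine (hmul m).trans ?_
  show ((Ideal.Quotient.mk J (MonoidAlgebra.single m 1)) ⊗ₜ[K] (1 : MonoidAlgebra K (Multiplicative M) ⧸ J)) *
    ((1 : MonoidAlgebra K (Multiplicative M) ⧸ J) ⊗ₜ[K] (Ideal.Quotient.mk J (MonoidAlgebra.single m 1))) = _
  rw [Algebra.TensorProduct.tmul_mul_tmul, mul_one, one_mul]

variable [IsIntegral X.left]

/-- the characters of the generic stabiliser -/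
theorem exists_subgroup : ∃ Λ : Subgroup (Multiplicative M), ∀ (V : X.left.Opens) (hV : IsAffineOpen V) [Nonempty V],
    (∀ (B : CommRingCat.{u}) (φ : MonoidAlgebra Γ(X.left, V) (Multiplicative M) →+* B),
      (∀ m ∈ Λ, φ (MonoidAlgebra.single m 1) = 1) → Fixes a hV.fromSpec φ) ∧
    ∀ m ∈ Λ, ∃ f : Γ(X.left, V), f ≠ 0 ∧ ∀ (B : CommRingCat.{u})
      (φ : MonoidAlgebra Γ(X.left, V) (Multiplicative M) →+* B), Fixes a hV.fromSpec φ →
        IsUnit (φ (MonoidAlgebra.single 1 f)) → φ (MonoidAlgebra.single m 1) = 1 := by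
  obtain ⟨JK, hJK, hker⟩ := field_kernel a (K := X.left.functionField) (X.left.fromSpecStalk (genericPoint X.left))
  refine ⟨kerChar JK, fun V hV hne => ?_⟩
  haveI : IsFractionRing Γ(X.left, V) X.left.functionField :=
    functionField_isFractionRing_of_isAffineOpen X.left V hV
  obtain ⟨J, hJ⟩ := exists_ideal a hV.fromSpec
  let ιm := MonoidAlgebra.mapRingHom (Multiplicative M) (algebraMap Γ(X.left, V) X.left.functionField)
  have hιm : Function.Injective ιm :=
    MonoidAlgebra.map_injective _ (IsFractionRing.injective Γ(X.left, V) X.left.functionField)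
  have hη : Spec.map (X.left.germToFunctionField V) ≫ hV.fromSpec = X.left.fromSpecStalk (genericPoint X.left) :=
    hV.fromSpecStalk_eq_fromSpecStalk
      (((genericPoint_spec X.left).mem_open_set_iff V.isOpen).mpr (by simpa using hne))
  have hJK' : JK = J.map ιm := by
    have h : ∀ (B : CommRingCat.{u}) (φ : MonoidAlgebra X.left.functionField (Multiplicative M) →+* B),
        J.map ιm ≤ RingHom.ker φ ↔ JK ≤ RingHom.ker φ := by
      intro B φ
      rw [← hJK, Ideal.map_le_iff_le_comap]
      have := fixes_map a hV.fromSpec (X.left.germToFunctionField V) φ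
      rw [hη] at this
      exact ((hJ B (φ.comp ιm)).symm).trans this.symm
    refine le_antisymm ?_ ?_
    · have := (h (CommRingCat.of _) (Ideal.Quotient.mk (J.map ιm))).1 Ideal.mk_ker.ge
      rwa [Ideal.mk_ker] at this
    · have := (h (CommRingCat.of _) (Ideal.Quotient.mk JK)).2 Ideal.mk_ker.ge
      rwa [Ideal.mk_ker] at this
  constructor
  · intro B φ hφ
    rw [hJ]
    intro x hx
    let π := QuotientGroup.mk' (kerChar JK)
    have h0 : MonoidAlgebra.mapDomainRingHom X.left.functionField π (ιm x) = 0 :=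
      hker (hJK'.symm ▸ Ideal.mem_map_of_mem ιm hx)
    have hc : (MonoidAlgebra.mapDomainRingHom X.left.functionField π).comp ιm =
        (MonoidAlgebra.mapRingHom _ (algebraMap Γ(X.left, V) X.left.functionField)).comp
          (MonoidAlgebra.mapDomainRingHom Γ(X.left, V) π) := by
      refine MonoidAlgebra.ringHom_ext (fun c => ?_) fun m => ?_
      · simp [ιm, MonoidAlgebra.mapDomainRingHom, MonoidAlgebra.mapDomain_single]
      · simp [ιm, MonoidAlgebra.mapDomainRingHom, MonoidAlgebra.mapDomain_single]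
    have h1 : MonoidAlgebra.mapDomainRingHom Γ(X.left, V) π x = 0 := by
      refine MonoidAlgebra.map_injective (algebraMap Γ(X.left, V) X.left.functionField).toAddMonoidHom
        (IsFractionRing.injective Γ(X.left, V) X.left.functionField) ?_
      exact ((RingHom.congr_fun hc x).symm.trans h0).trans
        (map_zero (MonoidAlgebra.mapRingHom _ (algebraMap Γ(X.left, V) X.left.functionField))).symm
    let χ : Multiplicative M ⧸ kerChar JK →* B :=
      QuotientGroup.lift (kerChar JK) (φ.toMonoidHom.comp (MonoidAlgebra.of _ _)) hφ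
    have hfac : (liftR (φ.comp MonoidAlgebra.singleOneRingHom) χ).comp
        (MonoidAlgebra.mapDomainRingHom Γ(X.left, V) π) = φ := by
      refine MonoidAlgebra.ringHom_ext (fun c => ?_) fun m => ?_
      · show liftR _ χ (MonoidAlgebra.mapDomain π (MonoidAlgebra.single 1 c)) = _
        rw [MonoidAlgebra.mapDomain_single, liftR_single, map_one, map_one, mul_one]
        rfl
      · show liftR _ χ (MonoidAlgebra.mapDomain π (MonoidAlgebra.single m 1)) = _
        rw [MonoidAlgebra.mapDomain_single, liftR_single, map_one, one_mul]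
        rfl
    rw [RingHom.mem_ker, ← RingHom.congr_fun hfac x, RingHom.comp_apply, h1, map_zero]
  · intro m hm
    rw [mem_kerChar, hJK'] at hm
    obtain ⟨f, hf, y, hy, e⟩ := exists_of_mem_map J hm
    refine ⟨f, hf, fun B φ hφ hu => ?_⟩
    have hy' : y = MonoidAlgebra.single 1 f * (MonoidAlgebra.single m 1 - 1) := by
      refine hιm (e.trans ?_)
      simp only [map_mul, map_sub, map_one, ιm, MonoidAlgebra.mapRingHom_single]
    have h0 : φ y = 0 := (hJ B φ).1 hφ hy
    rw [hy', map_mul, map_sub, map_one, hu.mul_right_eq_zero, sub_eq_zero] at h0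
    exact h0

end Groth.Agent.TorusStab
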