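import Groth.Prelude.Def_Red
import Groth.Prelude.Def_AlgGrp
import Groth.Agent.HomDiag.Points
import Mathlib.AlgebraicGeometry.Morphisms.ClosedImmersion
import Mathlib.AlgebraicGeometry.Morphisms.Separated

/-!
# Fixed points of actions of diagonalisable groups in terms of characters
-/

set_option autoImplicit false
set_option linter.style.haveILetI false
set_option backward.isDefEq.respectTransparency false

universe u

open CategoryTheory Limits MonoidalCategory CartesianMonoidalCategory AlgebraicGeometry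
open scoped CategoryTheory.Obj MonObj

noncomputable section

namespace Groth.Agent.TorusStab

open HomDiag

variable {S : Scheme.{u}} {M : Type} [AddCommGroup M]

/-- ring homs out of a group algebra -/
def liftR {L B : Type u} [CommRing L] [CommRing B] {N : Type} [CommMonoid N] (ρ : L →+* B) (χ : N →* B) :
    MonoidAlgebra L N →+* B :=
  MonoidAlgebra.liftNCRingHom ρ χ fun _ _ => Commute.all _ _

theorem liftR_single {L B : Type u} [CommRing L] [CommRing B] {N : Type} [CommMonoid N] (ρ : L →+* B) (χ : N →* B)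
    (m : N) (c : L) : liftR ρ χ (MonoidAlgebra.single m c) = ρ c * χ m := by
  show MonoidAlgebra.liftNC _ _ (MonoidAlgebra.single m c) = _
  rw [MonoidAlgebra.liftNC_single]
  rfl

theorem liftR_comp_one {L B : Type u} [CommRing L] [CommRing B] {N : Type} [CommMonoid N] (ρ : L →+* B) (χ : N →* B) :
    (liftR ρ χ).comp MonoidAlgebra.singleOneRingHom = ρ :=
  RingHom.ext fun c => by
    show liftR ρ χ (MonoidAlgebra.single 1 c) = ρ c
    rw [liftR_single, map_one, mul_one]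

/-- the equaliser of two maps of an affine scheme into a separated scheme is given by an ideal -/
theorem exists_eq_ideal {A : CommRingCat.{u}} {Z : Scheme.{u}} (pZ : Z ⟶ S) [IsSeparated pZ] (f g : Spec A ⟶ Z)
    (h : f ≫ pZ = g ≫ pZ) :
    ∃ J : Ideal A, ∀ (B : CommRingCat.{u}) (φ : A ⟶ B), Spec.map φ ≫ f = Spec.map φ ≫ g ↔ J ≤ RingHom.ker φ.hom := by
  let d : Z ⟶ pullback pZ pZ := pullback.diagonal pZ
  let c : pullback (pullback.lift f g h) d ⟶ Spec A := pullback.fst _ _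
  haveI : IsClosedImmersion c := inferInstanceAs (IsClosedImmersion (pullback.fst (pullback.lift f g h) d))
  obtain ⟨J, e, he⟩ := IsClosedImmersion.Spec_iff.1 ‹IsClosedImmersion c›
  refine ⟨J, fun B φ => ⟨fun hφ => ?_, fun hJ => ?_⟩⟩
  · let t : Spec B ⟶ pullback (pullback.lift f g h) d := pullback.lift (Spec.map φ) (Spec.map φ ≫ f) (by
      refine pullback.hom_ext ?_ ?_
      · simp [d]
      · simp [d, hφ])
    have ht : (t ≫ e.hom) ≫ Spec.map (CommRingCat.ofHom (Ideal.Quotient.mk J)) = Spec.map φ := by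
      rw [Category.assoc, ← he]
      exact pullback.lift_fst _ _ _
    obtain ⟨ψ, hψ⟩ := Spec.map_surjective (t ≫ e.hom)
    rw [← hψ, ← Spec.map_comp, Spec.map_inj] at ht
    intro x hx
    rw [RingHom.mem_ker, ← ht]
    show ψ.hom (Ideal.Quotient.mk J x) = 0
    rw [Ideal.Quotient.eq_zero_iff_mem.2 hx, map_zero]
  · let ψ : CommRingCat.of (A ⧸ J) ⟶ B := CommRingCat.ofHom (Ideal.Quotient.lift J φ.hom hJ)
    have hψ : CommRingCat.ofHom (Ideal.Quotient.mk J) ≫ ψ = φ := by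
      ext x
      rfl
    have hc : ∀ {W : Scheme.{u}} (t : W ⟶ pullback (pullback.lift f g h) d), t ≫ c ≫ f = t ≫ c ≫ g := by
      intro W t
      have := pullback.condition (f := pullback.lift f g h) (g := d)
      have h1 := congrArg (· ≫ pullback.fst pZ pZ) this
      have h2 := congrArg (· ≫ pullback.snd pZ pZ) this
      simp only [Category.assoc, pullback.lift_fst, pullback.lift_snd, d, pullback.diagonal_fst,
        pullback.diagonal_snd, Category.comp_id] at h1 h2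
      rw [h1, h2]
    have h3 : Spec.map φ = (Spec.map ψ ≫ e.inv) ≫ c := by
      rw [he, Category.assoc, e.inv_hom_id_assoc, ← Spec.map_comp, hψ]
    rw [h3, Category.assoc, Category.assoc _ c]
    simpa only [Category.assoc] using hc (Spec.map ψ ≫ e.inv)

variable {X : Over S} (a : AlgGrp.Action (Red.DS S M) X)

/-- the universal source of pairs (character, point through `ξ`) -/
def P (M : Type) [AddCommGroup M] {L : CommRingCat.{u}} (ξ : Spec L ⟶ X.left) : Over S :=
  Over.mk (Spec.map (CommRingCat.ofHom (MonoidAlgebra.singleOneRingHom :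
    L →+* MonoidAlgebra L (Multiplicative M))) ≫ ξ ≫ X.hom)

/-- the universal point -/
def xP (M : Type) [AddCommGroup M] {L : CommRingCat.{u}} (ξ : Spec L ⟶ X.left) : P M ξ ⟶ X :=
  Over.homMk (Spec.map (CommRingCat.ofHom (MonoidAlgebra.singleOneRingHom :
    L →+* MonoidAlgebra L (Multiplicative M))) ≫ ξ) (Category.assoc _ _ _)

/-- the universal character -/
def gP (M : Type) [AddCommGroup M] {L : CommRingCat.{u}} (ξ : Spec L ⟶ X.left) : P M ξ ⟶ Red.DS S M :=
  (exists_ch (X := P M ξ) (((Scheme.ΓSpecIso (CommRingCat.of (MonoidAlgebra L (Multiplicative M)))).inv.hom.toMonoidHom).comp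
    (MonoidAlgebra.of L (Multiplicative M)))).choose

theorem ch_gP {L : CommRingCat.{u}} (ξ : Spec L ⟶ X.left) (m : Multiplicative M) :
    ch (gP M ξ) m = (Scheme.ΓSpecIso (CommRingCat.of (MonoidAlgebra L (Multiplicative M)))).inv
      (MonoidAlgebra.single m 1) :=
  (exists_ch (X := P M ξ) (((Scheme.ΓSpecIso (CommRingCat.of (MonoidAlgebra L (Multiplicative M)))).inv.hom.toMonoidHom).comp
    (MonoidAlgebra.of L (Multiplicative M)))).choose_spec m

/-- a ring map out of `L[M]` equalises the action and the projection -/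
def Fixes {L : CommRingCat.{u}} (ξ : Spec L ⟶ X.left) {B : CommRingCat.{u}}
    (φ : MonoidAlgebra L (Multiplicative M) →+* B) : Prop :=
  Spec.map (CommRingCat.ofHom φ) ≫ (lift (gP M ξ) (xP M ξ) ≫ a.act).left =
    Spec.map (CommRingCat.ofHom φ) ≫ (xP M ξ).left

theorem exists_ideal [IsSeparated X.hom] {L : CommRingCat.{u}} (ξ : Spec L ⟶ X.left) :
    ∃ J : Ideal (MonoidAlgebra L (Multiplicative M)), ∀ (B : CommRingCat.{u})
      (φ : MonoidAlgebra L (Multiplicative M) →+* B), Fixes a ξ φ ↔ J ≤ RingHom.ker φ := by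
  obtain ⟨J, hJ⟩ := exists_eq_ideal (A := CommRingCat.of (MonoidAlgebra L (Multiplicative M))) X.hom
    (lift (gP M ξ) (xP M ξ) ≫ a.act).left (xP M ξ).left
    ((Over.w (lift (gP M ξ) (xP M ξ) ≫ a.act)).trans (Over.w (xP M ξ)).symm)
  exact ⟨J, fun B φ => hJ B (CommRingCat.ofHom φ)⟩

theorem exists_through {L : CommRingCat.{u}} (ξ : Spec L ⟶ X.left) {B : CommRingCat.{u}}
    (q : Spec B ⟶ S) (g : Over.mk q ⟶ Red.DS S M) (x : Over.mk q ⟶ X) (ρ : L ⟶ B) (hx : Spec.map ρ ≫ ξ = x.left)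
    (φ : MonoidAlgebra L (Multiplicative M) →+* B) (hφρ : φ.comp MonoidAlgebra.singleOneRingHom = ρ.hom)
    (hφg : ∀ m, ch g m = (Scheme.ΓSpecIso B).inv (φ (MonoidAlgebra.single m 1))) :
    ∃ j : Over.mk q ⟶ P M ξ, j.left = Spec.map (CommRingCat.ofHom φ) ∧ j ≫ gP M ξ = g ∧ j ≫ xP M ξ = x := by
  have e : CommRingCat.ofHom (MonoidAlgebra.singleOneRingHom : L →+* MonoidAlgebra L (Multiplicative M)) ≫
      CommRingCat.ofHom φ = ρ := CommRingCat.hom_ext hφρ
  refine ⟨Over.homMk (Spec.map (CommRingCat.ofHom φ)) ?_, rfl, ch_ext fun m => ?_, Over.OverMorphism.ext ?_⟩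
  · show Spec.map (CommRingCat.ofHom φ) ≫ Spec.map _ ≫ ξ ≫ X.hom = q
    rw [← Spec.map_comp_assoc, e, ← Category.assoc, hx]
    exact Over.w x
  · rw [ch_comp, ch_gP, hφg]
    show (Spec.map (CommRingCat.ofHom φ)).appTop _ = _
    exact congrArg (fun h => h.hom (MonoidAlgebra.single m 1))
      (Scheme.ΓSpecIso_inv_naturality (CommRingCat.ofHom φ)).symm
  · show Spec.map (CommRingCat.ofHom φ) ≫ Spec.map _ ≫ ξ = x.left
    rw [← Spec.map_comp_assoc, e, hx]

/-- dictionary -/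
theorem fixes_iff {L : CommRingCat.{u}} (ξ : Spec L ⟶ X.left) {B : CommRingCat.{u}}
    (q : Spec B ⟶ S) (g : Over.mk q ⟶ Red.DS S M) (x : Over.mk q ⟶ X) (ρ : L ⟶ B) (hx : Spec.map ρ ≫ ξ = x.left)
    (φ : MonoidAlgebra L (Multiplicative M) →+* B) (hφρ : φ.comp MonoidAlgebra.singleOneRingHom = ρ.hom)
    (hφg : ∀ m, ch g m = (Scheme.ΓSpecIso B).inv (φ (MonoidAlgebra.single m 1))) :
    lift g x ≫ a.act = x ↔ Fixes a ξ φ := by
  obtain ⟨j, hj, hjg, hjx⟩ := exists_through ξ q g x ρ hx φ hφρ hφg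
  rw [← hjg, ← hjx, ← comp_lift, Category.assoc]
  unfold Fixes
  rw [← hj]
  exact ⟨fun h => congrArg CommaMorphism.left h, fun h => Over.OverMorphism.ext h⟩

/-- change of base ring -/
theorem fixes_map {L L' : CommRingCat.{u}} (ξ : Spec L ⟶ X.left) (θ : L ⟶ L') {B : CommRingCat.{u}}
    (φ : MonoidAlgebra L' (Multiplicative M) →+* B) :
    Fixes a (Spec.map θ ≫ ξ) φ ↔ Fixes a ξ (φ.comp (MonoidAlgebra.mapRingHom (Multiplicative M) θ.hom)) := by
  let ιm : CommRingCat.of (MonoidAlgebra L (Multiplicative M)) ⟶ CommRingCat.of (MonoidAlgebra L' (Multiplicative M)) :=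
    CommRingCat.ofHom (MonoidAlgebra.mapRingHom (Multiplicative M) θ.hom)
  obtain ⟨j, hj, hjg, hjx⟩ := exists_through ξ _ (gP M (Spec.map θ ≫ ξ)) (xP M (Spec.map θ ≫ ξ))
    (θ ≫ CommRingCat.ofHom MonoidAlgebra.singleOneRingHom)
    (by rw [Spec.map_comp, Category.assoc]; rfl) ιm.hom
    (RingHom.ext fun c => MonoidAlgebra.mapRingHom_single _ _ _)
    (fun m => by
      refine (ch_gP (Spec.map θ ≫ ξ) m).trans ?_
      congr 1
      show _ = MonoidAlgebra.mapRingHom _ θ.hom (MonoidAlgebra.single m 1)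
      rw [MonoidAlgebra.mapRingHom_single, map_one])
  have h1 : (lift (gP M (Spec.map θ ≫ ξ)) (xP M (Spec.map θ ≫ ξ)) ≫ a.act).left =
      Spec.map ιm ≫ (lift (gP M ξ) (xP M ξ) ≫ a.act).left := by
    rw [← hjg, ← hjx, ← comp_lift, Category.assoc, Over.comp_left, hj]
    rfl
  have h2 : (xP M (Spec.map θ ≫ ξ)).left = Spec.map ιm ≫ (xP M ξ).left := by
    rw [← hjx, Over.comp_left, hj]
    rfl
  unfold Fixes
  rw [h1, h2, CommRingCat.ofHom_comp, Spec.map_comp, Category.assoc, Category.assoc]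

variable [IsSeparated X.hom]

omit [IsSeparated X.hom] in
theorem exists_pt {L : CommRingCat.{u}} (ξ : Spec L ⟶ X.left) {B : CommRingCat.{u}} (ρ : L ⟶ B) :
    ∃ x : Over.mk (Spec.map ρ ≫ ξ ≫ X.hom) ⟶ X, x.left = Spec.map ρ ≫ ξ :=
  ⟨Over.homMk (Spec.map ρ ≫ ξ) (Category.assoc _ _ _), rfl⟩

omit [IsSeparated X.hom] in
/-- the characters fixing a point form a group: products -/
theorem fixes_mul {L : CommRingCat.{u}} (ξ : Spec L ⟶ X.left) {B : CommRingCat.{u}}
    (φ₁ φ₂ φ₃ : MonoidAlgebra L (Multiplicative M) →+* B)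
    (h12 : φ₁.comp MonoidAlgebra.singleOneRingHom = φ₂.comp MonoidAlgebra.singleOneRingHom)
    (h13 : φ₁.comp MonoidAlgebra.singleOneRingHom = φ₃.comp MonoidAlgebra.singleOneRingHom)
    (hmul : ∀ m, φ₃ (MonoidAlgebra.single m 1) = φ₁ (MonoidAlgebra.single m 1) * φ₂ (MonoidAlgebra.single m 1))
    (h1 : Fixes a ξ φ₁) (h2 : Fixes a ξ φ₂) : Fixes a ξ φ₃ := by
  let ρ : L ⟶ B := CommRingCat.ofHom (φ₁.comp MonoidAlgebra.singleOneRingHom)
  obtain ⟨x, hx⟩ := exists_pt ξ ρ
  have pt : ∀ φ : MonoidAlgebra L (Multiplicative M) →+* B, ∃ g : Over.mk (Spec.map ρ ≫ ξ ≫ X.hom) ⟶ Red.DS S M,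
      ∀ m, ch g m = (Scheme.ΓSpecIso B).inv (φ (MonoidAlgebra.single m 1)) := fun φ =>
    exists_ch (X := Over.mk (Spec.map ρ ≫ ξ ≫ X.hom))
      (((Scheme.ΓSpecIso B).inv.hom.comp φ).toMonoidHom.comp (MonoidAlgebra.of L (Multiplicative M)))
  obtain ⟨g₁, hg₁⟩ := pt φ₁
  obtain ⟨g₂, hg₂⟩ := pt φ₂
  rw [← fixes_iff a ξ _ g₁ x ρ hx.symm φ₁ rfl hg₁] at h1
  rw [← fixes_iff a ξ _ g₂ x ρ hx.symm φ₂ h12.symm hg₂] at h2
  rw [← fixes_iff a ξ _ (g₁ * g₂) x ρ hx.symm φ₃ h13.symm (fun m => by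
    rw [ch_mul, hg₁, hg₂, hmul, map_mul])]
  calc lift (g₁ * g₂) x ≫ a.act = lift g₁ (lift g₂ x ≫ a.act) ≫ a.act := by
        have h : lift (g₁ * g₂) x = lift (lift g₁ g₂) x ≫ (MonObj.mul ▷ X) := by
          rw [lift_whiskerRight]; rfl
        rw [h, Category.assoc, a.mul_act, lift_lift_associator_hom_assoc, lift_whiskerLeft_assoc]
    _ = x := by rw [h2, h1]

end Groth.Agent.TorusStab
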